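import Groth.Agent.GrpQ.H776.FlatFinite
import Mathlib.AlgebraicGeometry.Morphisms.LocalFlatDescent
import Mathlib.AlgebraicGeometry.Morphisms.Finite
import Mathlib.RingTheory.Flat.Rank

/-!
# Flatness of `D → E` from a finite piece `B₀`
-/

set_option autoImplicit false
universe u
open CategoryTheory Limits AlgebraicGeometry TensorProduct

namespace Groth.Agent.GrpQ.H776.FinalStep

/-- Flatness codescends along faithfully flat ring maps. -/
theorem flat_codescends : RingHom.CodescendsAlong.{u} RingHom.Flat RingHom.FaithfullyFlat := by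
  refine RingHom.CodescendsAlong.mk _ RingHom.Flat.respectsIso fun R S T _ _ _ _ _ h h' ↦ ?_
  rw [RingHom.flat_algebraMap_iff] at h' ⊢
  rw [RingHom.faithfullyFlat_algebraMap_iff] at h
  exact Module.Flat.of_flat_tensorProduct R T S

theorem flat_descends : MorphismProperty.DescendsAlong @Flat
    (@Surjective ⊓ @Flat ⊓ @QuasiCompact : MorphismProperty Scheme.{u}) :=
  HasRingHomProperty.descendsAlong_flat flat_codescends

theorem flat_snd {X T : Scheme.{u}} (f : X ⟶ T) [Flat (pullback.fst f f)] :
    Flat (pullback.snd f f) := by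
  have h : pullback.snd f f = (pullbackSymmetry f f).hom ≫ pullback.fst f f := by simp
  rw [h]
  infer_instance

theorem lfp_snd {X T : Scheme.{u}} (f : X ⟶ T) [LocallyOfFinitePresentation (pullback.fst f f)] :
    LocallyOfFinitePresentation (pullback.snd f f) := by
  have h : pullback.snd f f = (pullbackSymmetry f f).hom ≫ pullback.fst f f := by simp
  rw [h]
  infer_instance

section

variable {X₀ X T : Scheme.{u}} (g : X₀ ⟶ X) (f : X ⟶ T)

theorem flat_fst_comp [Flat (pullback.fst f f)] : Flat (pullback.fst (g ≫ f) f) := by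
  rw [← pullbackRightPullbackFstIso_inv_fst f f g]
  infer_instance

theorem lfp_fst_comp [LocallyOfFinitePresentation (pullback.fst f f)] :
    LocallyOfFinitePresentation (pullback.fst (g ≫ f) f) := by
  rw [← pullbackRightPullbackFstIso_inv_fst f f g]
  infer_instance

theorem flat_snd_comp [Flat g] [Flat (pullback.fst f f)] : Flat (pullback.snd (g ≫ f) f) := by
  have := flat_snd f
  have h : pullback.snd (g ≫ f) f = (pullbackRightPullbackFstIso f f g).inv ≫
      pullback.snd g (pullback.fst f f) ≫ pullback.snd f f := by simp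
  rw [h]
  infer_instance

theorem lfp_snd_comp [LocallyOfFinitePresentation g] [LocallyOfFinitePresentation (pullback.fst f f)] :
    LocallyOfFinitePresentation (pullback.snd (g ≫ f) f) := by
  have := lfp_snd f
  have h : pullback.snd (g ≫ f) f = (pullbackRightPullbackFstIso f f g).inv ≫
      pullback.snd g (pullback.fst f f) ≫ pullback.snd f f := by simp
  rw [h]
  infer_instance

theorem flat_fst_comp_comp [Flat g] [Flat (pullback.fst f f)] :
    Flat (pullback.fst (g ≫ f) (g ≫ f)) := by
  have := flat_fst_comp g f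
  have h : pullback.fst (g ≫ f) (g ≫ f) = (pullbackLeftPullbackSndIso (g ≫ f) f g).inv ≫
      pullback.fst (pullback.snd (g ≫ f) f) g ≫ pullback.fst (g ≫ f) f := by simp
  rw [h]
  infer_instance

end

theorem flat_tensor_iff {D B : Type u} [CommRing D] [CommRing B] [Algebra D B] :
    Flat (pullback.fst (Spec.map (CommRingCat.ofHom (algebraMap D B)))
      (Spec.map (CommRingCat.ofHom (algebraMap D B)))) ↔ Module.Flat B (B ⊗[D] B) := by
  rw [← pullbackSpecIso_hom_fst D B B, MorphismProperty.cancel_left_of_respectsIso (P := @Flat),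
    Flat.SpecMap_iff]
  exact RingHom.flat_algebraMap_iff

theorem lfp_tensor_iff {D B : Type u} [CommRing D] [CommRing B] [Algebra D B] :
    LocallyOfFinitePresentation (pullback.fst (Spec.map (CommRingCat.ofHom (algebraMap D B)))
      (Spec.map (CommRingCat.ofHom (algebraMap D B)))) ↔ Algebra.FinitePresentation B (B ⊗[D] B) := by
  rw [← pullbackSpecIso_hom_fst D B B,
    MorphismProperty.cancel_left_of_respectsIso (P := @LocallyOfFinitePresentation),
    HasRingHomProperty.Spec_iff (P := @LocallyOfFinitePresentation)]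
  exact RingHom.finitePresentation_algebraMap

/-- `X ×_T X → X` is unchanged by a monomorphism on the target. -/
theorem flat_fst_comp_mono {X T T' : Scheme.{u}} (f : X ⟶ T) (i : T ⟶ T') [Mono i] :
    Flat (pullback.fst (f ≫ i) (f ≫ i)) ↔ Flat (pullback.fst f f) := by
  have h : IsPullback (pullback.fst f f) (pullback.snd f f) (f ≫ i) (f ≫ i) :=
    ⟨⟨by rw [pullback.condition_assoc]⟩, ⟨pullbackIsPullbackOfCompMono f f i⟩⟩
  rw [← h.isoPullback_hom_fst, MorphismProperty.cancel_left_of_respectsIso (P := @Flat)]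

theorem lfp_fst_comp_mono {X T T' : Scheme.{u}} (f : X ⟶ T) (i : T ⟶ T') [Mono i] :
    LocallyOfFinitePresentation (pullback.fst (f ≫ i) (f ≫ i)) ↔
      LocallyOfFinitePresentation (pullback.fst f f) := by
  have h : IsPullback (pullback.fst f f) (pullback.snd f f) (f ≫ i) (f ≫ i) :=
    ⟨⟨by rw [pullback.condition_assoc]⟩, ⟨pullbackIsPullbackOfCompMono f f i⟩⟩
  rw [← h.isoPullback_hom_fst,
    MorphismProperty.cancel_left_of_respectsIso (P := @LocallyOfFinitePresentation)]

/-- Scheme form of `FlatFinite.flat_of_finite_of_injective`. -/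
theorem flat_of_isFinite {X T : Scheme.{u}} [IsAffine X] [IsAffine T] (f : X ⟶ T) [IsFinite f]
    (hinj : Function.Injective f.appTop.hom) [Flat (pullback.fst f f)] :
    Flat f ∧ Surjective f := by
  rw [Flat.flat_and_surjective_iff_faithfullyFlat_of_isAffine]
  have h1 : f.appTop.hom.Finite := f.finite_appTop
  algebraize [f.appTop.hom]
  have h2 : Spec.map (CommRingCat.ofHom (algebraMap Γ(T, ⊤) Γ(X, ⊤))) =
      (X.isoSpec.inv ≫ f) ≫ T.isoSpec.hom := by
    rw [Category.assoc, ← Scheme.isoSpec_hom_naturality, Iso.inv_hom_id_assoc]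
    rfl
  have h3 : Flat (pullback.fst (X.isoSpec.inv ≫ f) (X.isoSpec.inv ≫ f)) :=
    flat_fst_comp_comp _ _
  rw [← flat_fst_comp_mono _ T.isoSpec.hom, ← h2, flat_tensor_iff] at h3
  have h4 : Module.Flat Γ(T, ⊤) Γ(X, ⊤) := FlatFinite.flat_of_finite_of_injective hinj h3
  rw [RingHom.FaithfullyFlat.iff_flat_and_comap_surjective]
  refine ⟨h4, PrimeSpectrum.comap_surjective_iff_injective_of_finite.2 hinj⟩

/-- The final step. -/
theorem final {X₀ X T : Scheme.{u}} [IsAffine X₀] [IsAffine X] [IsAffine T] (g : X₀ ⟶ X)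
    (f : X ⟶ T) [Flat (pullback.fst f f)]
    [LocallyOfFinitePresentation (pullback.fst f f)] [Flat g] [IsFinite (g ≫ f)]
    (hinj : Function.Injective f.appTop.hom)
    (hsurj : ∀ x : X, ∃ y : X₀, f x = (g ≫ f) y) :
    Flat f ∧ Surjective f ∧ LocallyOfFinitePresentation f := by
  have h1 := flat_snd_comp g f
  have h2 : Surjective (pullback.snd (g ≫ f) f) := by
    constructor
    intro x
    obtain ⟨y, hy⟩ := hsurj x
    obtain ⟨z, -, hz⟩ := Scheme.Pullback.exists_preimage_pullback (f := g ≫ f) (g := f) y x hy.symm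
    exact ⟨z, hz⟩
  have h3 : Function.Injective (pullback.snd (g ≫ f) f).appTop.hom :=
    (Flat.flat_and_surjective_iff_faithfullyFlat_of_isAffine _).1 ⟨h1, h2⟩ |>.injective
  have h4 : Function.Injective (g ≫ f).appTop.hom := by
    have h5 : (g ≫ f).appTop ≫ (pullback.fst (g ≫ f) f).appTop =
        f.appTop ≫ (pullback.snd (g ≫ f) f).appTop := by
      rw [← Scheme.Hom.comp_appTop, ← Scheme.Hom.comp_appTop, pullback.condition]
    have h6 : Function.Injective ((g ≫ f).appTop ≫ (pullback.fst (g ≫ f) f).appTop).hom := by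
      rw [h5]
      exact h3.comp hinj
    exact Function.Injective.of_comp h6
  have h7 := flat_fst_comp_comp g f
  obtain ⟨h8, h9⟩ := flat_of_isFinite (g ≫ f) h4
  have h10 := flat_fst_comp g f
  have h11 := lfp_fst_comp g f
  have h12 := flat_descends.{u}
  refine ⟨?_, ?_, ?_⟩
  · exact MorphismProperty.of_pullback_fst_of_descendsAlong (P := @Flat)
      (Q := @Surjective ⊓ @Flat ⊓ @QuasiCompact) (f := g ≫ f) (g := f)
      ⟨⟨inferInstance, inferInstance⟩, inferInstance⟩ h10
  · exact Surjective.of_comp g f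
  · exact MorphismProperty.of_pullback_fst_of_descendsAlong (P := @LocallyOfFinitePresentation)
      (Q := @Surjective ⊓ @Flat ⊓ @QuasiCompact) (f := g ≫ f) (g := f)
      ⟨⟨inferInstance, inferInstance⟩, inferInstance⟩ h11

end Groth.Agent.GrpQ.H776.FinalStep
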