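import Mathlib.AlgebraicGeometry.Morphisms.LocalFlatDescent

/-!
# Descent of properties along a family of flat, locally finitely presented morphisms
-/

set_option autoImplicit false
universe u
open CategoryTheory Limits AlgebraicGeometry

namespace Groth.Agent.GrpQ.H776.DescFamily

theorem of_family (P : MorphismProperty Scheme.{u}) [IsZariskiLocalAtTarget P]
    [P.DescendsAlong (@Surjective ⊓ @Flat ⊓ @LocallyOfFinitePresentation)]
    {X U : Scheme.{u}} (g : X ⟶ U) {ι : Type*} (V Q : ι → Scheme.{u}) (v : ∀ i, V i ⟶ U)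
    [∀ i, Flat (v i)] [∀ i, LocallyOfFinitePresentation (v i)] (a : ∀ i, Q i ⟶ X)
    (b : ∀ i, Q i ⟶ V i) (h : ∀ i, IsPullback (a i) (b i) g (v i))
    (hcov : ∀ x : U, ∃ i, x ∈ Set.range (v i)) (hP : ∀ i, P (b i)) : P g := by
  let W : ι → U.Opens := fun i => ⟨Set.range (v i), (v i).isOpenMap.isOpen_range⟩
  have hW : iSup W = ⊤ := by
    rw [eq_top_iff]
    intro x _
    obtain ⟨i, hi⟩ := hcov x
    exact TopologicalSpace.Opens.mem_iSup.2 ⟨i, hi⟩
  refine IsZariskiLocalAtTarget.of_iSup_eq_top W hW fun i => ?_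
  have hr : Set.range (v i) ⊆ Set.range (W i).ι := by simp [W]
  let s : V i ⟶ (W i).toScheme := IsOpenImmersion.lift (W i).ι (v i) hr
  have hs : s ≫ (W i).ι = v i := IsOpenImmersion.lift_fac _ _ _
  have hs1 : Flat s := by
    have : Flat (s ≫ (W i).ι) := by rw [hs]; infer_instance
    exact MorphismProperty.of_postcomp (W := @Flat) s (W i).ι
      (W' := @IsOpenImmersion) inferInstance this
  have hs2 : LocallyOfFinitePresentation s := by
    have : LocallyOfFinitePresentation (s ≫ (W i).ι) := by rw [hs]; infer_instance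
    exact MorphismProperty.of_postcomp (W := @LocallyOfFinitePresentation) s (W i).ι
      (W' := @IsOpenImmersion) inferInstance this
  have hs3 : Surjective s := by
    constructor
    rintro ⟨_, y, rfl⟩
    refine ⟨y, (W i).ι.injective ?_⟩
    rw [← Scheme.Hom.comp_apply, hs]
    rfl
  have ht := (isPullback_morphismRestrict g (W i)).flip
  have hw : a i ≫ g = (b i ≫ s) ≫ (W i).ι := by rw [Category.assoc, hs, (h i).w]
  let a' : Q i ⟶ (g ⁻¹ᵁ W i).toScheme := ht.lift (a i) (b i ≫ s) hw
  have ha1 : a' ≫ (g ⁻¹ᵁ W i).ι = a i := ht.lift_fst _ _ _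
  have ha2 : a' ≫ g ∣_ W i = b i ≫ s := ht.lift_snd _ _ _
  have hq : IsPullback a' (b i) (g ∣_ W i) s := by
    refine IsPullback.of_right ?_ ha2 ht
    rw [ha1, hs]
    exact h i
  exact MorphismProperty.of_isPullback_of_descendsAlong (P := P)
    (Q := @Surjective ⊓ @Flat ⊓ @LocallyOfFinitePresentation) hq.flip
    ⟨⟨hs3, hs1⟩, hs2⟩ (hP i)

end Groth.Agent.GrpQ.H776.DescFamily
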