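import Groth.Agent.GrpQ.H776.Dominion
import Groth.Agent.GrpQ.H776.DescFamily
import Mathlib.AlgebraicGeometry.EffectiveEpi

/-!
# Flat-mono factorisation: the affine quasi-finite case
-/

set_option autoImplicit false
universe u
open CategoryTheory Limits AlgebraicGeometry TensorProduct

namespace Groth.Agent.GrpQ.H776.QFAffine

open FinalStep Dominion

/-- If `g` is an fppf cover and `g` equalizes the kernel pair of `g ≫ h`, then `h` is a
monomorphism. -/
theorem mono_of_kernelPair {X Z Y : Scheme.{u}} (g : X ⟶ Z) (h : Z ⟶ Y) [Flat g] [Surjective g]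
    (hk : pullback.fst (g ≫ h) (g ≫ h) ≫ g = pullback.snd (g ≫ h) (g ≫ h) ≫ g) : Mono h := by
  constructor
  intro T a b hab
  let t : pullback (pullback.fst a g ≫ b) g ⟶ T := pullback.fst _ _ ≫ pullback.fst a g
  let xa : pullback (pullback.fst a g ≫ b) g ⟶ X := pullback.fst _ _ ≫ pullback.snd a g
  let xb : pullback (pullback.fst a g ≫ b) g ⟶ X := pullback.snd _ _
  have ha : t ≫ a = xa ≫ g := by
    simp only [t, xa, Category.assoc, pullback.condition]
  have hb : t ≫ b = xb ≫ g := by
    simp only [t, xb, Category.assoc, ← pullback.condition]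
  have : Epi t := Flat.epi_of_flat_of_surjective _
  have hxx : xa ≫ g ≫ h = xb ≫ g ≫ h := by
    rw [← reassoc_of% ha, ← reassoc_of% hb, hab]
  rw [← cancel_epi t, ha, hb]
  have h1 : xa = pullback.lift xa xb hxx ≫ pullback.fst (g ≫ h) (g ≫ h) :=
    (pullback.lift_fst _ _ _).symm
  have h2 : xb = pullback.lift xa xb hxx ≫ pullback.snd (g ≫ h) (g ≫ h) :=
    (pullback.lift_snd _ _ _).symm
  calc xa ≫ g = pullback.lift xa xb hxx ≫ pullback.fst (g ≫ h) (g ≫ h) ≫ g := by
        rw [← Category.assoc, ← h1]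
    _ = pullback.lift xa xb hxx ≫ pullback.snd (g ≫ h) (g ≫ h) ≫ g := by rw [hk]
    _ = xb ≫ g := by rw [← Category.assoc, ← h2]

/-- The affine quasi-finite case. -/
theorem hasFact_of_quasiFinite {A B : Type u} [CommRing A] [CommRing B] [Algebra A B]
    [Algebra.FinitePresentation A B] [Algebra.QuasiFinite A B]
    (hflat : Module.Flat B (B ⊗[A] B)) :
    ∃ (Z : Scheme.{u}) (g : Spec (.of B) ⟶ Z) (h : Z ⟶ Spec (.of A)),
      Surjective g ∧ Flat g ∧ LocallyOfFinitePresentation g ∧ Mono h ∧
        g ≫ h = Spec.map (CommRingCat.ofHom (algebraMap A B)) := by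
  have : Algebra.FiniteType (dom A B) B := .of_restrictScalars_finiteType A _ _
  have : Algebra.QuasiFinite (dom A B) B := .of_restrictScalars A _ _
  have hinj : Function.Injective (algebraMap (dom A B) B) := Subtype.val_injective
  let φ : Spec (.of B) ⟶ Spec (.of (dom A B)) :=
    Spec.map (CommRingCat.ofHom (algebraMap (dom A B) B))
  have hcore := fun q : PrimeSpectrum B => QFCore.core (C := dom A B) (S := B) hinj
    (isEffective_dom A B) (flat_dom A B hflat) (finitePresentation_dom A B inferInstance) q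
  choose V Q v a b hpb het haff hfl hsurj hlfp hex using hcore
  let U : (Spec (.of (dom A B))).Opens :=
    ⟨⋃ q, Set.range (v q), isOpen_iUnion fun q => (v q).isOpenMap.isOpen_range⟩
  have hφU : Set.range φ ⊆ Set.range U.ι := by
    rw [Scheme.Opens.range_ι]
    rintro _ ⟨q, rfl⟩
    obtain ⟨z, hz⟩ := hex q
    refine Set.mem_iUnion.2 ⟨q, b q z, ?_⟩
    have h1 := congrArg (fun k => k z) (congrArg (fun k : Q q ⟶ _ => (k : Q q → _)) (hpb q).w)
    simp only [Scheme.Hom.comp_apply] at h1
    rw [← h1, hz]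
  let g : Spec (.of B) ⟶ U.toScheme := IsOpenImmersion.lift U.ι φ hφU
  have hg : g ≫ U.ι = φ := IsOpenImmersion.lift_fac _ _ _
  have hvU : ∀ q, Set.range (v q) ⊆ Set.range U.ι := by
    intro q
    rw [Scheme.Opens.range_ι]
    exact Set.subset_iUnion (fun q => Set.range (v q)) q
  let v' : ∀ q, V q ⟶ U.toScheme := fun q => IsOpenImmersion.lift U.ι (v q) (hvU q)
  have hv' : ∀ q, v' q ≫ U.ι = v q := fun q => IsOpenImmersion.lift_fac _ _ _
  have hpb' : ∀ q, IsPullback (a q) (b q) g (v' q) := by
    intro q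
    have h1 : a q ≫ g = b q ≫ v' q := by
      rw [← cancel_mono U.ι, Category.assoc, Category.assoc, hg, hv', (hpb q).w]
    exact ⟨⟨h1⟩, ⟨PullbackCone.isLimitOfFactors φ (v q) U.ι g (v' q) hg (hv' q) _ (hpb q).isLimit⟩⟩
  have hfl' : ∀ q, Flat (v' q) := by
    intro q
    have : Flat (v' q ≫ U.ι) := by rw [hv' q]; infer_instance
    exact MorphismProperty.of_postcomp (W := @Flat) (v' q) U.ι
      (W' := @IsOpenImmersion) inferInstance this
  have hlfp' : ∀ q, LocallyOfFinitePresentation (v' q) := by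
    intro q
    have : LocallyOfFinitePresentation (v' q ≫ U.ι) := by rw [hv' q]; infer_instance
    exact MorphismProperty.of_postcomp (W := @LocallyOfFinitePresentation) (v' q) U.ι
      (W' := @IsOpenImmersion) inferInstance this
  have hcov : ∀ x : U.toScheme, ∃ q, x ∈ Set.range (v' q) := by
    intro x
    obtain ⟨q, y, hy⟩ := Set.mem_iUnion.1 x.2
    refine ⟨q, y, U.ι.injective ?_⟩
    rw [← Scheme.Hom.comp_apply, hv', hy]
    rfl
  have := flat_descends.{u}
  have hg1 : Flat g := DescFamily.of_family @Flat g V Q v' a b hpb' hcov hfl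
  have hg2 : Surjective g := DescFamily.of_family @Surjective g V Q v' a b hpb' hcov hsurj
  have hg3 : LocallyOfFinitePresentation g :=
    DescFamily.of_family @LocallyOfFinitePresentation g V Q v' a b hpb' hcov hlfp
  refine ⟨U.toScheme, g, U.ι ≫ Spec.map (CommRingCat.ofHom (algebraMap A (dom A B))),
    hg2, hg1, hg3, ?_, ?_⟩
  · apply mono_of_kernelPair g
    have h0 : g ≫ U.ι ≫ Spec.map (CommRingCat.ofHom (algebraMap A (dom A B))) =
        Spec.map (CommRingCat.ofHom (algebraMap A B)) := by
      rw [reassoc_of% hg, ← Spec.map_comp]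
      rfl
    rw [h0, ← cancel_mono U.ι, Category.assoc, Category.assoc, hg,
      ← pullbackSpecIso_hom_fst A B B, ← pullbackSpecIso_hom_snd A B B, Category.assoc,
      Category.assoc, ← Spec.map_comp, ← Spec.map_comp, ← CommRingCat.ofHom_comp,
      ← CommRingCat.ofHom_comp]
    congr 3
    ext c
    exact c.2
  · rw [reassoc_of% hg, ← Spec.map_comp]
    rfl

end Groth.Agent.GrpQ.H776.QFAffine
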