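import Groth.Agent.GrpQ.H773.Orbit
import Groth.Agent.S0114
import Groth.Agent.S0115
import Mathlib.AlgebraicGeometry.Noetherian

/-!
# The image of the graph morphism `(g, x) ↦ (g x, x)` of an action
-/

set_option autoImplicit false

universe u

open CategoryTheory CategoryTheory.Limits MonoidalCategory CartesianMonoidalCategory MonObj GrpObj AlgebraicGeometry

namespace Groth.Agent.GrpQ.H776.ActImage

open Groth.Agent.GrpQ.H773.Orbit Groth.Agent.GrpQ.H773.HasFact

variable {S : Scheme.{u}} {G X : Over S} [GrpObj G] (a : AlgGrp.Action G X)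

/-- `(g, x) ↦ (g x, x)` -/
noncomputable abbrev graph : G ⊗ X ⟶ X ⊗ X := lift a.act (snd G X)

/-- the diagonal -/
noncomputable abbrev diag (X : Over S) : X ⟶ X ⊗ X := lift (𝟙 X) (𝟙 X)

theorem comp_act {T : Over S} (u : T ⟶ G ⊗ X) : u ≫ a.act = lift (u ≫ fst G X) (u ≫ snd G X) ≫ a.act := by
  congr 1
  apply CartesianMonoidalCategory.hom_ext <;> simp

theorem graph_eq_iff {T : Over S} (u v : T ⟶ G ⊗ X) :
    u ≫ graph a = v ≫ graph a ↔
      u ≫ snd G X = v ≫ snd G X ∧ u ≫ a.act = v ≫ a.act := by
  constructor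
  · intro h
    constructor
    · simpa using congrArg (· ≫ snd X X) h
    · simpa using congrArg (· ≫ fst X X) h
  · rintro ⟨h1, h2⟩
    apply CartesianMonoidalCategory.hom_ext
    · simpa using h2
    · simpa using h1

theorem stab_iff {T : Over S} (g : T ⟶ G) (x : T ⟶ X) :
    lift g x ≫ graph a = x ≫ diag X ↔ lift g x ≫ a.act = x := by
  constructor
  · intro h
    simpa using congrArg (· ≫ fst X X) h
  · intro h
    apply CartesianMonoidalCategory.hom_ext
    · simpa using h
    · simp

/-- the comparison map `((g, x), (h, x)) ↦ (g⁻¹ h, x)` -/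
noncomputable def comp : pullback (graph a) (graph a) ⟶ pullback (graph a) (diag X) :=
  pullback.lift (lift ((pullback.fst (graph a) (graph a) ≫ fst G X)⁻¹ *
      (pullback.snd (graph a) (graph a) ≫ fst G X)) (pullback.fst (graph a) (graph a) ≫ snd G X))
    (pullback.fst (graph a) (graph a) ≫ snd G X) (by
      obtain ⟨h1, h2⟩ := (graph_eq_iff a _ _).1 (pullback.condition (f := graph a) (g := graph a))
      rw [stab_iff, lift_mul_act]
      conv_lhs => enter [1, 2]; rw [h1, ← comp_act, ← h2, comp_act]
      rw [← lift_mul_act, inv_mul_cancel, lift_one_act])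

theorem comp_snd : comp a ≫ pullback.snd (graph a) (diag X) =
    pullback.fst (graph a) (graph a) ≫ snd G X := pullback.lift_snd _ _ _

theorem comp_fst : comp a ≫ pullback.fst (graph a) (diag X) =
    lift ((pullback.fst (graph a) (graph a) ≫ fst G X)⁻¹ *
      (pullback.snd (graph a) (graph a) ≫ fst G X)) (pullback.fst (graph a) (graph a) ≫ snd G X) :=
  pullback.lift_fst _ _ _

theorem stab_snd {T : Over S} (z : T ⟶ pullback (graph a) (diag X)) :
    z ≫ pullback.fst (graph a) (diag X) ≫ snd G X = z ≫ pullback.snd (graph a) (diag X) := by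
  have h := congrArg (fun k => z ≫ k ≫ snd X X) (pullback.condition (f := graph a) (g := diag X))
  simpa using h

theorem stab_act {T : Over S} (z : T ⟶ pullback (graph a) (diag X)) :
    lift (z ≫ pullback.fst (graph a) (diag X) ≫ fst G X) (z ≫ pullback.snd (graph a) (diag X)) ≫
      a.act = z ≫ pullback.snd (graph a) (diag X) := by
  have h := congrArg (fun k => z ≫ k ≫ fst X X) (pullback.condition (f := graph a) (g := diag X))
  simp only [Category.assoc, lift_fst, Category.comp_id] at h
  have h1 := comp_act a (z ≫ pullback.fst (graph a) (diag X))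
  rw [Category.assoc, h, Category.assoc, Category.assoc, stab_snd] at h1
  exact h1.symm

theorem comp_comp_fst {T : Over S} (z : T ⟶ pullback (graph a) (graph a)) :
    z ≫ comp a ≫ pullback.fst (graph a) (diag X) =
      lift ((z ≫ pullback.fst (graph a) (graph a) ≫ fst G X)⁻¹ *
        (z ≫ pullback.snd (graph a) (graph a) ≫ fst G X))
        (z ≫ pullback.fst (graph a) (graph a) ≫ snd G X) := by
  rw [comp_fst, comp_lift, MonObj.comp_mul, GrpObj.comp_inv]

theorem isPullback_comp :
    IsPullback (pullback.fst (graph a) (graph a)) (comp a) (snd G X)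
      (pullback.snd (graph a) (diag X)) := by
  refine ⟨⟨(comp_snd a).symm⟩, ⟨PullbackCone.IsLimit.mk _ (fun c => pullback.lift c.fst
    (lift ((c.fst ≫ fst G X) * (c.snd ≫ pullback.fst (graph a) (diag X) ≫ fst G X))
      (c.fst ≫ snd G X)) ?_) ?_ ?_ ?_⟩⟩
  · rw [graph_eq_iff]
    refine ⟨(lift_snd _ _).symm, ?_⟩
    rw [lift_mul_act, c.condition, stab_act, ← c.condition, ← comp_act]
  · exact fun c => pullback.lift_fst _ _ _
  · intro c
    apply pullback.hom_ext
    · rw [Category.assoc, comp_comp_fst, pullback.lift_fst_assoc, pullback.lift_fst_assoc,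
        pullback.lift_snd_assoc, lift_fst, inv_mul_cancel_left]
      apply CartesianMonoidalCategory.hom_ext
      · rw [lift_fst, Category.assoc]
      · rw [lift_snd, Category.assoc, stab_snd, c.condition]
    · rw [Category.assoc, comp_snd, pullback.lift_fst_assoc]
      exact c.condition
  · intro c m h1 h2
    apply pullback.hom_ext
    · rw [pullback.lift_fst, h1]
    · rw [pullback.lift_snd, ← h1, ← h2]
      have h3 := ((graph_eq_iff a _ _).1 (pullback.condition (f := graph a) (g := graph a))).1
      apply CartesianMonoidalCategory.hom_ext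
      · rw [lift_fst, Category.assoc, Category.assoc, Category.assoc, ← Category.assoc (comp a),
          ← Category.assoc m (comp a ≫ _), comp_comp_fst, lift_fst, mul_inv_cancel_left]
      · rw [lift_snd, Category.assoc, Category.assoc, h3]

theorem unit_graph : lift (1 : X ⟶ G) (𝟙 X) ≫ graph a = diag X := by
  have h := (stab_iff a (1 : X ⟶ G) (𝟙 X)).2 (lift_one_act a _)
  rw [h, Category.id_comp]

theorem surjective_left_of_section {Y Z : Over S} (f : Y ⟶ Z) (s : Z ⟶ Y) (h : s ≫ f = 𝟙 Z) :
    Surjective f.left := by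
  constructor
  intro z
  refine ⟨s.left z, ?_⟩
  rw [← Scheme.Hom.comp_apply, ← Over.comp_left, h]
  rfl

theorem surjective_snd : Surjective (snd G X).left :=
  surjective_left_of_section _ (lift (1 : X ⟶ G) (𝟙 X)) (lift_snd _ _)

theorem surjective_act : Surjective a.act.left :=
  surjective_left_of_section _ (lift (1 : X ⟶ G) (𝟙 X)) (lift_one_act a _)

/-- the automorphism `(g, x) ↦ (g⁻¹, g x)` exchanges the action and the projection -/
noncomputable def shear : G ⊗ X ⟶ G ⊗ X := lift (fst G X)⁻¹ a.act

theorem shear_shear : shear a ≫ shear a = 𝟙 _ := by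
  have h1 : (fst G X)⁻¹ ≫ 𝟙 G = (fst G X)⁻¹ := Category.comp_id _
  apply CartesianMonoidalCategory.hom_ext
  · rw [shear, Category.assoc, lift_fst, GrpObj.comp_inv, lift_fst, _root_.inv_inv, Category.id_comp]
  · rw [shear, Category.assoc, lift_snd, Category.id_comp]
    have h2 : a.act = lift (fst G X) (snd G X) ≫ a.act := by
      simp
    conv_lhs => enter [1, 2]; rw [h2]
    rw [← lift_mul_act, inv_mul_cancel, lift_one_act]

instance : IsIso (shear a) := ⟨shear a, shear_shear a, shear_shear a⟩

theorem shear_snd : shear a ≫ snd G X = a.act := lift_snd _ _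

theorem act_prop (P : MorphismProperty Scheme.{u}) [P.RespectsIso] (h : P (snd G X).left) :
    P a.act.left := by
  have : IsIso (shear a).left := inferInstanceAs (IsIso ((Over.forget S).map (shear a)))
  rw [← shear_snd a, Over.comp_left]
  exact (P.cancel_left_of_respectsIso _ _).2 h

omit [GrpObj G] in
/-- `b)` of the theorem for the two projections, for any morphism `q` from the middle term to `X`
whose composite with the cover is the action or the projection. -/
theorem props_of_comp {Y : Over S}
    (ψ : G ⊗ X ⟶ Y) (q : Y ⟶ X) (h1 : Surjective ψ.left) (h2 : Flat ψ.left)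
    (h3 : LocallyOfFinitePresentation ψ.left) (k1 : Surjective (ψ ≫ q).left)
    (k2 : Flat (ψ ≫ q).left) (k3 : LocallyOfFinitePresentation (ψ ≫ q).left)
    (k4 : QuasiCompact (ψ ≫ q).left) (k5 : QuasiSeparated q.left) :
    Surjective q.left ∧ Flat q.left ∧ LocallyOfFinitePresentation q.left ∧
      QuasiCompact q.left ∧ QuasiSeparated q.left := by
  rw [Over.comp_left] at k1 k2 k3 k4
  refine ⟨Surjective.of_comp ψ.left q.left, ?_, ?_, ?_, k5⟩
  · exact Groth.Agent.S0115.flat_of_comp ψ.left q.left
  · exact Groth.Agent.S0114.result ψ.left q.left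
  · constructor
    intro U hU hU'
    have h := QuasiCompact.isCompact_preimage (f := ψ.left ≫ q.left) U hU hU'
    have h0 : IsCompact (ψ.left ⁻¹' (q.left ⁻¹' U)) := h
    have h' := h0.image ψ.left.continuous
    have h'' : ψ.left '' (ψ.left ⁻¹' (q.left ⁻¹' U)) = q.left ⁻¹' U :=
      Set.image_preimage_eq _ ψ.left.surjective
    exact h'' ▸ h'

theorem isLocallyNoetherian_left [IsLocallyNoetherian S] (Y : Over S) [LocallyOfFiniteType Y.hom] :
    IsLocallyNoetherian Y.left := LocallyOfFiniteType.isLocallyNoetherian Y.hom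

instance lft_tensor (Y Z : Over S) [LocallyOfFiniteType Y.hom] [LocallyOfFiniteType Z.hom] :
    LocallyOfFiniteType (Y ⊗ Z).hom := by
  have h : (Y ⊗ Z).hom = pullback.fst Y.hom Z.hom ≫ Y.hom := rfl
  rw [h]
  infer_instance

/-- Flatness of the stabilizer implies flatness of the kernel pair of the graph morphism. -/
theorem flat_fst_graph (h : Flat (pullback.snd (graph a) (diag X)).left) :
    Flat (pullback.fst (graph a).left (graph a).left) := by
  have h1 := (isPullback_comp a).map (Over.forget S)
  have h2 : Flat (pullback.fst (graph a) (graph a)).left :=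
    MorphismProperty.of_isPullback (P := @Flat) h1.flip h
  have h3 : IsPullback (pullback.fst (graph a) (graph a)).left
      (pullback.snd (graph a) (graph a)).left (graph a).left (graph a).left :=
    (IsPullback.of_hasPullback (graph a) (graph a)).map (Over.forget S)
  rw [← h3.isoPullback_inv_fst]
  infer_instance

/-- A factorisation of the graph morphism makes the stabilizer flat. -/
theorem flat_stab {Y : Over S} (ψ : G ⊗ X ⟶ Y) (τ : Y ⟶ X ⊗ X) (h : ψ ≫ τ = graph a)
    (h2 : Flat ψ.left) (h4 : Mono τ) : Flat (pullback.snd (graph a) (diag X)).left := by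
  have h5 : IsPullback (pullback.fst (graph a) (diag X)) (pullback.snd (graph a) (diag X))
      (ψ ≫ τ) ((lift (1 : X ⟶ G) (𝟙 X) ≫ ψ) ≫ τ) := by
    have e : (lift (1 : X ⟶ G) (𝟙 X) ≫ ψ) ≫ τ = diag X := by
      rw [Category.assoc, h, unit_graph]
    rw [e, h]
    exact IsPullback.of_hasPullback _ _
  have h6 := (isPullback_of_comp_mono h5).map (Over.forget S)
  exact MorphismProperty.of_isPullback (P := @Flat) h6 h2

/-- **The theorem**, from the factorisation theorem. -/
theorem main (hF : ∀ {X Y : Scheme.{u}} (f : X ⟶ Y) [LocallyOfFinitePresentation f]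
      [Flat (pullback.fst f f)], HasFact f)
    [IsNoetherian S] [Flat G.hom] [LocallyOfFiniteType G.hom] [QuasiCompact G.hom]
    [LocallyOfFiniteType X.hom] [QuasiCompact X.hom] :
    ((∃ (Y : Over S) (ψ : G ⊗ X ⟶ Y) (τ : Y ⟶ X ⊗ X), ψ ≫ τ = lift a.act (snd G X) ∧
        Surjective ψ.left ∧ Flat ψ.left ∧ LocallyOfFinitePresentation ψ.left ∧ Mono τ) ↔
      Flat (pullback.snd (lift a.act (snd G X)) (lift (𝟙 X) (𝟙 X))).left) ∧
    (∀ (Y : Over S) (ψ : G ⊗ X ⟶ Y) (τ : Y ⟶ X ⊗ X), ψ ≫ τ = lift a.act (snd G X) →
      Surjective ψ.left → Flat ψ.left → LocallyOfFinitePresentation ψ.left → Mono τ →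
      (Surjective (τ ≫ fst X X).left ∧ Flat (τ ≫ fst X X).left ∧
        LocallyOfFinitePresentation (τ ≫ fst X X).left ∧
        QuasiCompact (τ ≫ fst X X).left ∧ QuasiSeparated (τ ≫ fst X X).left ∧
       Surjective (τ ≫ snd X X).left ∧ Flat (τ ≫ snd X X).left ∧
        LocallyOfFinitePresentation (τ ≫ snd X X).left ∧
        QuasiCompact (τ ≫ snd X X).left ∧ QuasiSeparated (τ ≫ snd X X).left)) := by
  have hX : IsLocallyNoetherian X.left := isLocallyNoetherian_left X
  have hXX : IsLocallyNoetherian (X ⊗ X).left := isLocallyNoetherian_left (X ⊗ X)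
  refine ⟨⟨?_, ?_⟩, ?_⟩
  · rintro ⟨Y, ψ, τ, h, -, h2, -, h4⟩
    exact flat_stab a ψ τ h h2 h4
  · intro h
    have h1 := flat_fst_graph a h
    have h2 : LocallyOfFiniteType (graph a).left := by
      have : LocallyOfFiniteType ((graph a).left ≫ (X ⊗ X).hom) := by
        rw [Over.w]; infer_instance
      exact locallyOfFiniteType_of_comp (graph a).left (X ⊗ X).hom
    obtain ⟨Z, g, k, h3, h4, h5, h6, h7⟩ := hF (graph a).left
    let Q : Over S := Over.mk (k ≫ (X ⊗ X).hom)
    let p : G ⊗ X ⟶ Q := Over.homMk g (by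
      change g ≫ k ≫ (X ⊗ X).hom = (G ⊗ X).hom
      rw [← Category.assoc, h7, Over.w])
    let i : Q ⟶ X ⊗ X := Over.homMk k rfl
    have hpi : p ≫ i = graph a := Over.OverMorphism.ext h7
    have hi : Mono i := by
      have : Mono i.left := h6
      exact Over.mono_of_mono_left i
    exact ⟨Q, p, i, hpi, h3, h4, h5, hi⟩
  · intro Y ψ τ h h1 h2 h3 h4
    have hsnd : (snd G X).left = pullback.snd G.hom X.hom := rfl
    have hτ : Mono τ.left := inferInstanceAs (Mono ((Over.forget S).map τ))
    have hfst' : (fst X X).left = pullback.fst X.hom X.hom := rfl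
    have hsnd' : (snd X X).left = pullback.snd X.hom X.hom := rfl
    have q1 : QuasiSeparated (fst X X).left := inferInstance
    have q2 : QuasiSeparated (snd X X).left := inferInstance
    have e1 : ψ ≫ τ ≫ fst X X = a.act := by rw [← Category.assoc, h, lift_fst]
    have e2 : ψ ≫ τ ≫ snd X X = snd G X := by rw [← Category.assoc, h, lift_snd]
    have s1 : Flat (snd G X).left := by rw [hsnd]; infer_instance
    have s2 : LocallyOfFinitePresentation (snd G X).left := by rw [hsnd]; infer_instance
    have s3 : QuasiCompact (snd G X).left := by rw [hsnd]; infer_instance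
    obtain ⟨a1, a2, a3, a4, a5⟩ := props_of_comp ψ (τ ≫ fst X X) h1 h2 h3
      (by rw [e1]; exact surjective_act a) (by rw [e1]; exact act_prop a @Flat s1)
      (by rw [e1]; exact act_prop a @LocallyOfFinitePresentation s2)
      (by rw [e1]; exact act_prop a @QuasiCompact s3) (by rw [Over.comp_left]; infer_instance)
    obtain ⟨b1, b2, b3, b4, b5⟩ := props_of_comp ψ (τ ≫ snd X X) h1 h2 h3
      (by rw [e2]; exact surjective_snd) (by rw [e2]; exact s1)
      (by rw [e2]; exact s2)
      (by rw [e2]; exact s3) (by rw [Over.comp_left]; infer_instance)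
    exact ⟨a1, a2, a3, a4, a5, b1, b2, b3, b4, b5⟩

end Groth.Agent.GrpQ.H776.ActImage
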