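import Groth.Agent.GrpQ.H776.QFCore
import Mathlib.RingTheory.QuasiFinite.Basic

/-!
# The dominion `C = {b | b ⊗ 1 = 1 ⊗ b}` of `A → B`
-/

set_option autoImplicit false
universe u v
open TensorProduct

namespace Groth.Agent.GrpQ.H776.Dominion

variable (A : Type u) (B : Type v) [CommRing A] [CommRing B] [Algebra A B]

/-- The dominion of `A → B`. -/
def dom : Subalgebra A B :=
  AlgHom.equalizer (Algebra.TensorProduct.includeLeft : B →ₐ[A] B ⊗[A] B)
    Algebra.TensorProduct.includeRight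

variable {A B} in
theorem mem_dom (b : B) : b ∈ dom A B ↔ b ⊗ₜ[A] (1 : B) = 1 ⊗ₜ[A] b := Iff.rfl

instance : CompatibleSMul A (dom A B) B B := by
  refine ⟨fun c m n => ?_⟩
  have h : (c : B) ⊗ₜ[A] (1 : B) = 1 ⊗ₜ[A] (c : B) := (mem_dom (c : B)).1 c.2
  calc (c • m) ⊗ₜ[A] n = ((c : B) ⊗ₜ[A] (1 : B)) * (m ⊗ₜ[A] n) := by
        rw [Algebra.TensorProduct.tmul_mul_tmul, one_mul]; rfl
    _ = m ⊗ₜ[A] (c • n) := by
        rw [h, Algebra.TensorProduct.tmul_mul_tmul, one_mul]; rfl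

/-- `B ⊗[C] B = B ⊗[A] B` for `C` the dominion. -/
noncomputable def equiv : B ⊗[dom A B] B ≃ₐ[B] B ⊗[A] B :=
  Algebra.TensorProduct.equivOfCompatibleSMul A (dom A B) B B B

theorem equiv_tmul (x y : B) : equiv A B (x ⊗ₜ y) = x ⊗ₜ y := rfl

theorem flat_dom (h : Module.Flat B (B ⊗[A] B)) : Module.Flat B (B ⊗[dom A B] B) :=
  Module.Flat.of_linearEquiv (equiv A B).toLinearEquiv

theorem finitePresentation_dom (h : Algebra.FinitePresentation B (B ⊗[A] B)) :
    Algebra.FinitePresentation B (B ⊗[dom A B] B) :=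
  Algebra.FinitePresentation.equiv (equiv A B).symm

theorem isEffective_dom : Algebra.IsEffective (dom A B) B := by
  intro b
  rw [Algebra.TensorProduct.includeLeftSubRight_apply, sub_eq_zero]
  constructor
  · intro h
    have h1 := congrArg (equiv A B) h
    rw [equiv_tmul, equiv_tmul] at h1
    exact ⟨⟨b, h1⟩, rfl⟩
  · rintro ⟨c, rfl⟩
    apply (equiv A B).injective
    rw [equiv_tmul, equiv_tmul]
    exact c.2

end Groth.Agent.GrpQ.H776.Dominion
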