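import Mathlib.RingTheory.TensorProduct.IncludeLeftSubRight
import Mathlib.RingTheory.Flat.Equalizer
import Mathlib.RingTheory.Spectrum.Prime.Topology
import Mathlib.RingTheory.Idempotents

/-!
# Effectivity (`C → S ⇉ S ⊗[C] S` exact) under flat base change; descent of idempotents
-/

set_option autoImplicit false
universe u v w
open TensorProduct

namespace Groth.Agent.GrpQ.H776.Effective

variable {C : Type u} {S : Type v} [CommRing C] [CommRing S] [Algebra C S]

theorem isEffective_baseChange (C' : Type w) [CommRing C'] [Algebra C C'] [Module.Flat C C']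
    (h : Algebra.IsEffective C S) : Algebra.IsEffective C' (C' ⊗[C] S) := by
  intro x
  have h1 : Function.Exact ((Algebra.linearMap C S).lTensor C')
      ((Algebra.TensorProduct.includeLeftSubRight C S).lTensor C') := Module.Flat.lTensor_exact C' h
  rw [← Algebra.TensorProduct.distribBaseChange_includeLeftSubRight_apply, LinearEquiv.map_eq_zero_iff,
    h1 x]
  constructor
  · rintro ⟨y, rfl⟩
    refine ⟨TensorProduct.rid C C' y, ?_⟩
    induction y with
    | zero => simp
    | add x y hx hy => rw [map_add, map_add, map_add, hx, hy]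
    | tmul x y =>
      rw [Algebra.linearMap_apply, Algebra.TensorProduct.algebraMap_apply, TensorProduct.rid_tmul,
        LinearMap.lTensor_tmul, Algebra.linearMap_apply, Algebra.algebraMap_self_apply,
        TensorProduct.smul_tmul, Algebra.algebraMap_eq_smul_one]
  · rintro ⟨y, rfl⟩
    exact ⟨y ⊗ₜ 1, by simp [Algebra.TensorProduct.algebraMap_apply]⟩

/-- An idempotent of `S` whose basic open is the preimage of a subset of `Spec C` comes from `C`. -/
theorem exists_idempotent (hinj : Function.Injective (algebraMap C S))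
    (h : Algebra.IsEffective C S) (T : Set (PrimeSpectrum C)) (ε : S) (hε : IsIdempotentElem ε)
    (hT : ∀ x : PrimeSpectrum S, ε ∉ x.asIdeal ↔ x.comap (algebraMap C S) ∈ T) :
    ∃ ε' : C, IsIdempotentElem ε' ∧ algebraMap C S ε' = ε := by
  have h1 : ε ⊗ₜ[C] (1 : S) = (1 : S) ⊗ₜ[C] ε := by
    apply PrimeSpectrum.basicOpen_injOn_isIdempotentElem
    · exact hε.map (Algebra.TensorProduct.includeLeft : S →ₐ[C] S ⊗[C] S)
    · exact hε.map (Algebra.TensorProduct.includeRight : S →ₐ[C] S ⊗[C] S)
    · ext z
      have h2 := hT (z.comap (Algebra.TensorProduct.includeLeft : S →ₐ[C] S ⊗[C] S).toRingHom)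
      have h3 := hT (z.comap (Algebra.TensorProduct.includeRight : S →ₐ[C] S ⊗[C] S).toRingHom)
      have h4 : (z.comap (Algebra.TensorProduct.includeLeft : S →ₐ[C] S ⊗[C] S).toRingHom).comap
          (algebraMap C S) = (z.comap (Algebra.TensorProduct.includeRight : S →ₐ[C] S ⊗[C] S).toRingHom).comap
          (algebraMap C S) := by
        rw [← PrimeSpectrum.comap_comp_apply, ← PrimeSpectrum.comap_comp_apply]
        congr 1
        ext x
        exact ((Algebra.TensorProduct.includeLeft : S →ₐ[C] S ⊗[C] S).commutes x).trans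
          ((Algebra.TensorProduct.includeRight : S →ₐ[C] S ⊗[C] S).commutes x).symm
      rw [h4] at h2
      exact h2.trans h3.symm
  obtain ⟨ε', hε'⟩ := (h ε).1 (by simp [h1])
  exact ⟨ε', hinj (by
    have h5 : algebraMap C S ε' = ε := hε'
    rw [map_mul, h5]; exact hε), hε'⟩

end Groth.Agent.GrpQ.H776.Effective
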