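import Groth.Agent.GrpQ.H776.QFAffine
import Groth.Agent.GrpQ.H773.Assemble
import Groth.Agent.GrpQ.H792.SliceMain

/-!
# Existence of the factorisation: fppf cover followed by a monomorphism
-/

set_option autoImplicit false
universe u
open CategoryTheory Limits AlgebraicGeometry TensorProduct

namespace Groth.Agent.GrpQ.H776.Exist

open Groth.Agent.GrpQ.H773.HasFact Groth.Agent.GrpQ.H773.Assemble

theorem p1 : P1.{u} := fun _ _ _ _ _ _ _ h => QFAffine.hasFact_of_quasiFinite h

/-- **The factorisation theorem.** A morphism `f : X ⟶ Y` locally of finite presentation with flat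
first projection `X ×_Y X ⟶ X` is an fppf cover followed by a monomorphism. -/
theorem hasFact {X Y : Scheme.{u}} (f : X ⟶ Y) [LocallyOfFinitePresentation f]
    [Flat (pullback.fst f f)] : HasFact f :=
  hasFact_of_flat p1 Groth.Agent.GrpQ.H792.SliceMain.exists_slice f

end Groth.Agent.GrpQ.H776.Exist
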