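import Mathlib.RingTheory.Flat.LocallyFree
import Mathlib.RingTheory.Flat.Localization
import Mathlib.RingTheory.LocalRing.Module
import Mathlib.RingTheory.Flat.FaithfullyFlat.Algebra
import Mathlib.RingTheory.Spectrum.Prime.FreeLocus
import Mathlib.RingTheory.LocalRing.ResidueField.Basic

/-!
# Finite algebras whose self tensor product is flat

`flat_of_finite_of_injective`: if `A → B` is finite and injective and `B ⊗[A] B` is flat over `B`,
then `B` is flat over `A`.
-/

set_option autoImplicit false
universe u v
open TensorProduct

namespace Groth.Agent.GrpQ.H776.FlatFinite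

variable {A : Type u} {B : Type v} [CommRing A] [CommRing B] [Algebra A B]

/-- local case -/
theorem free_of_local [IsLocalRing A] [Module.Finite A B]
    (hinj : Function.Injective (algebraMap A B)) (hflat : Module.Flat B (B ⊗[A] B)) :
    Module.Free A B := by
  let k := IsLocalRing.ResidueField A
  let n := Module.finrank k (k ⊗[A] B)
  let b : Module.Basis (Fin n) k (k ⊗[A] B) := Module.finBasis k (k ⊗[A] B)
  have hex : ∀ i, ∃ x : B, (1 : k) ⊗ₜ[A] x = b i := fun i =>
    TensorProduct.mk_surjective A B k Ideal.Quotient.mk_surjective (b i)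
  choose v hv using hex
  have hspan : Submodule.span A (Set.range v) = ⊤ :=
    IsLocalRing.span_eq_top_of_tmul_eq_basis v b hv
  let φ : (Fin n → B) →ₗ[B] B ⊗[A] B :=
    Fintype.linearCombination B (fun i => (1 : B) ⊗ₜ[A] v i)
  have hφ : Function.Surjective φ := by
    rw [← LinearMap.range_eq_top, eq_top_iff]
    intro x _
    induction x with
    | zero => exact zero_mem _
    | add x y hx hy => exact add_mem (hx trivial) (hy trivial)
    | tmul x y =>
      have hy : y ∈ Submodule.span A (Set.range v) := hspan ▸ trivial
      obtain ⟨c, rfl⟩ := (Submodule.mem_span_range_iff_exists_fun A).1 hy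
      refine ⟨fun i => c i • x, ?_⟩
      simp only [φ, Fintype.linearCombination_apply, tmul_sum]
      refine Finset.sum_congr rfl fun i _ => ?_
      rw [TensorProduct.smul_tmul', smul_eq_mul, mul_one, TensorProduct.smul_tmul]
  have hbij : Function.Bijective φ := by
    refine Module.bijective_of_surjective_of_rankAtStalk_eq hφ fun m hm => ?_
    have hmp : m.IsPrime := hm.isPrime
    have hint : Algebra.IsIntegral A B := inferInstance
    have hmax : m.comap (algebraMap A B) = IsLocalRing.maximalIdeal A := by
      have : (m.comap (algebraMap A B)).IsMaximal := Ideal.isMaximal_comap_of_isIntegral_of_isMaximal m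
      exact IsLocalRing.eq_maximalIdeal this
    have : Nontrivial B := ⟨0, 1, fun h => hmp.ne_top ((Ideal.eq_top_iff_one _).2 (h ▸ m.zero_mem))⟩
    have h0 : ∀ a ∈ IsLocalRing.maximalIdeal A, algebraMap A m.ResidueField a = 0 := by
      intro a ha
      rw [IsScalarTower.algebraMap_apply A B m.ResidueField, Ideal.algebraMap_residueField_eq_zero]
      rw [← hmax] at ha
      exact ha
    have hl : IsLocalHom (algebraMap A m.ResidueField) := by
      constructor
      intro a ha
      by_contra hcon
      exact ha.ne_zero (h0 a ((IsLocalRing.mem_maximalIdeal a).2 hcon))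
    let f : k →+* m.ResidueField := IsLocalRing.ResidueField.lift (algebraMap A m.ResidueField)
    let := f.toAlgebra
    have : IsScalarTower A k m.ResidueField := IsScalarTower.of_algebraMap_eq fun x => rfl
    rw [Module.rankAtStalk_pi, Module.rankAtStalk_eq (M := B ⊗[A] B)]
    have e : m.ResidueField ⊗[B] (B ⊗[A] B) ≃ₗ[m.ResidueField] m.ResidueField ⊗[k] (k ⊗[A] B) :=
      (AlgebraTensorModule.cancelBaseChange A B m.ResidueField m.ResidueField B).trans
        (AlgebraTensorModule.cancelBaseChange A k m.ResidueField m.ResidueField B).symm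
    have h1 := e.finrank_eq.trans
      (Module.finrank_baseChange (R := m.ResidueField) (S := k) (M' := k ⊗[A] B))
    refine Eq.trans ?_ h1.symm
    simp [finsum_eq_sum_of_fintype, n]
  have hli : LinearIndependent A v := by
    rw [Fintype.linearIndependent_iff]
    intro c hc i
    have h1 : φ (fun i => algebraMap A B (c i)) = 0 := by
      simp only [φ, Fintype.linearCombination_apply]
      calc ∑ i, algebraMap A B (c i) • (1 : B) ⊗ₜ[A] v i = ∑ i, (1 : B) ⊗ₜ[A] (c i • v i) := by
            refine Finset.sum_congr rfl fun i _ => ?_
            rw [TensorProduct.smul_tmul', smul_eq_mul, mul_one, Algebra.algebraMap_eq_smul_one,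
              TensorProduct.smul_tmul]
        _ = (1 : B) ⊗ₜ[A] (∑ i, c i • v i) := by rw [tmul_sum]
        _ = 0 := by rw [hc, tmul_zero]
    have h2 := hbij.1 (h1.trans (map_zero φ).symm)
    have h3 := congrFun h2 i
    exact hinj (h3.trans (map_zero _).symm)
  exact Module.Free.of_basis (Module.Basis.mk hli hspan.ge)

attribute [local instance] Algebra.TensorProduct.rightAlgebra in
/-- Flatness of `B → B ⊗[A] B` is stable under base change. -/
theorem flat_baseChange (A' : Type*) [CommRing A'] [Algebra A A']
    (hflat : Module.Flat B (B ⊗[A] B)) :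
    Module.Flat (A' ⊗[A] B) ((A' ⊗[A] B) ⊗[A'] (A' ⊗[A] B)) := by
  have h : Module.Flat (A' ⊗[A] B) ((A' ⊗[A] B) ⊗[B] (B ⊗[A] B)) := inferInstance
  have e : (A' ⊗[A] B) ⊗[A'] (A' ⊗[A] B) ≃ₗ[A' ⊗[A] B] (A' ⊗[A] B) ⊗[B] (B ⊗[A] B) :=
    (AlgebraTensorModule.cancelBaseChange A A' (A' ⊗[A] B) (A' ⊗[A] B) B).trans
      (AlgebraTensorModule.cancelBaseChange A B (A' ⊗[A] B) (A' ⊗[A] B) B).symm
  exact Module.Flat.of_linearEquiv e

/-- If `A → B` is finite and injective and `B ⊗[A] B` is flat over `B`, then `B` is flat over
`A`. -/
theorem flat_of_finite_of_injective [Module.Finite A B]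
    (hinj : Function.Injective (algebraMap A B)) (hflat : Module.Flat B (B ⊗[A] B)) :
    Module.Flat A B := by
  refine Module.flat_of_isLocalized_maximal (R := A) A B
    (fun P _ => Localization.AtPrime P ⊗[A] B) (fun P _ => TensorProduct.mk A _ B 1) fun P hP => ?_
  have hinj' : Function.Injective (algebraMap (Localization.AtPrime P) (Localization.AtPrime P ⊗[A] B)) := by
    have h1 : Function.Injective ((Algebra.linearMap A B).lTensor (Localization.AtPrime P)) :=
      Module.Flat.lTensor_preserves_injective_linearMap _ hinj
    have h2 : (fun x : Localization.AtPrime P => algebraMap (Localization.AtPrime P)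
        (Localization.AtPrime P ⊗[A] B) x) = fun x =>
        (Algebra.linearMap A B).lTensor (Localization.AtPrime P) ((TensorProduct.rid A _).symm x) := by
      funext x
      simp [Algebra.TensorProduct.algebraMap_apply]
    change Function.Injective (fun x : Localization.AtPrime P => algebraMap (Localization.AtPrime P)
        (Localization.AtPrime P ⊗[A] B) x)
    rw [h2]
    exact h1.comp (TensorProduct.rid A _).symm.injective
  have hfree := free_of_local hinj' (flat_baseChange (Localization.AtPrime P) hflat)
  exact Module.Flat.trans A (Localization.AtPrime P) _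

end Groth.Agent.GrpQ.H776.FlatFinite
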