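import Groth.Agent.GrpQ.H776.FinalStep
import Groth.Agent.GrpQ.H776.Effective
import Mathlib.RingTheory.Etale.QuasiFinite
import Mathlib.AlgebraicGeometry.Morphisms.Etale
import Mathlib.AlgebraicGeometry.Morphisms.SchemeTheoreticallyDominant

/-!
# Étale-local structure of a quasi-finite algebra `C → S` with `S ⊗[C] S` flat over `S`
-/

set_option autoImplicit false
universe u
open CategoryTheory Limits AlgebraicGeometry TensorProduct

namespace Groth.Agent.GrpQ.H776.QFCore

open FinalStep

section

variable {X T X' T' : Scheme.{u}} {f : X ⟶ T} {v : T' ⟶ T} {a : X' ⟶ X} {b : X' ⟶ T'}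

theorem isPullback_self (h : IsPullback a b f v) :
    IsPullback (pullback.fst b b) (pullback.snd b b ≫ a) (a ≫ f) f := by
  have h1 : IsPullback (pullback.snd b b ≫ a) (pullback.fst b b) f (b ≫ v) :=
    ((IsPullback.of_hasPullback b b).flip.paste_horiz h.flip.flip)
  rw [← h.w] at h1
  exact h1.flip

theorem flat_self_of_isPullback (h : IsPullback a b f v) [Flat (pullback.fst f f)] :
    Flat (pullback.fst b b) := by
  have := flat_fst_comp a f
  rw [← (isPullback_self h).isoPullback_hom_fst]
  infer_instance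

theorem lfp_self_of_isPullback (h : IsPullback a b f v)
    [LocallyOfFinitePresentation (pullback.fst f f)] :
    LocallyOfFinitePresentation (pullback.fst b b) := by
  have := lfp_fst_comp a f
  rw [← (isPullback_self h).isoPullback_hom_fst]
  infer_instance

end

/-- `Spec (C' ⊗ S)` is the fibre product. -/
theorem isPullback_tensor (C C' S : Type u) [CommRing C] [CommRing C'] [CommRing S] [Algebra C C']
    [Algebra C S] :
    IsPullback (Spec.map (CommRingCat.ofHom
        (Algebra.TensorProduct.includeRight : S →ₐ[C] C' ⊗[C] S).toRingHom))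
      (Spec.map (CommRingCat.ofHom (algebraMap C' (C' ⊗[C] S))))
      (Spec.map (CommRingCat.ofHom (algebraMap C S)))
      (Spec.map (CommRingCat.ofHom (algebraMap C C'))) :=
  (isPullback_SpecMap_of_isPushout _ _ _ _
    (CommRingCat.isPushout_tensorProduct C C' S)).flip

theorem core {C S : Type u} [CommRing C] [CommRing S] [Algebra C S] [Algebra.FiniteType C S]
    (hinj : Function.Injective (algebraMap C S)) (heff : Algebra.IsEffective C S)
    (hflat : Module.Flat S (S ⊗[C] S)) (hfp : Algebra.FinitePresentation S (S ⊗[C] S))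
    (q : PrimeSpectrum S) [Algebra.QuasiFiniteAt C q.asIdeal] :
    ∃ (V Q : Scheme.{u}) (v : V ⟶ Spec (.of C)) (a : Q ⟶ Spec (.of S)) (b : Q ⟶ V),
      IsPullback a b (Spec.map (CommRingCat.ofHom (algebraMap C S))) v ∧ Etale v ∧
      IsAffine V ∧ Flat b ∧ Surjective b ∧ LocallyOfFinitePresentation b ∧ ∃ z : Q, a z = q := by
  obtain ⟨C', _, _, _, P, _, _, e, he, P', _, _, hP'q, heP', -, hfin, -⟩ :=
    Algebra.exists_etale_isIdempotentElem_forall_liesOver_eq (R := C) (S := S)
      (q.asIdeal.under C) q.asIdeal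
  set f : Spec (.of S) ⟶ Spec (.of C) := Spec.map (CommRingCat.ofHom (algebraMap C S)) with hf
  have : Flat (pullback.fst f f) := flat_tensor_iff.2 hflat
  have : LocallyOfFinitePresentation (pullback.fst f f) := lfp_tensor_iff.2 hfp
  let w : Spec (.of C') ⟶ Spec (.of C) := Spec.map (CommRingCat.ofHom (algebraMap C C'))
  let f' : Spec (.of (C' ⊗[C] S)) ⟶ Spec (.of C') :=
    Spec.map (CommRingCat.ofHom (algebraMap C' (C' ⊗[C] S)))
  have hpb := isPullback_tensor C C' S
  have : Flat (pullback.fst f' f') := flat_self_of_isPullback hpb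
  have : LocallyOfFinitePresentation (pullback.fst f' f') := lfp_self_of_isPullback hpb
  let g' : Spec (.of (Localization.Away e)) ⟶ Spec (.of (C' ⊗[C] S)) :=
    Spec.map (CommRingCat.ofHom (algebraMap (C' ⊗[C] S) (Localization.Away e)))
  have : IsOpenImmersion g' := IsOpenImmersion.of_isLocalization e
  have hgf : g' ≫ f' = Spec.map (CommRingCat.ofHom (algebraMap C' (Localization.Away e))) := by
    rw [IsScalarTower.algebraMap_eq C' (C' ⊗[C] S) (Localization.Away e), CommRingCat.ofHom_comp,
      Spec.map_comp]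
  have : IsFinite (g' ≫ f') := by
    rw [hgf, IsFinite.SpecMap_iff]
    exact RingHom.finite_algebraMap.2 hfin
  -- the saturation of `D(e)`
  let TC : Set (PrimeSpectrum C') := {t | ∃ y : PrimeSpectrum (C' ⊗[C] S), e ∉ y.asIdeal ∧
    y.comap (algebraMap C' (C' ⊗[C] S)) = t}
  have hTC : (PrimeSpectrum.comap (algebraMap C' (C' ⊗[C] S))) ⁻¹' TC =
      Set.range (pullback.snd (g' ≫ f') f') := by
    rw [Scheme.Pullback.range_snd]
    ext x
    constructor
    · rintro ⟨y, hy, hyx⟩
      have h1 : y ∈ Set.range (PrimeSpectrum.comap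
          (algebraMap (C' ⊗[C] S) (Localization.Away e))) := by
        rw [PrimeSpectrum.localization_away_comap_range (Localization.Away e) e]
        exact hy
      obtain ⟨z, rfl⟩ := h1
      exact ⟨z, hyx⟩
    · rintro ⟨z, hz⟩
      refine ⟨PrimeSpectrum.comap (algebraMap (C' ⊗[C] S) (Localization.Away e)) z, ?_, hz⟩
      have h1 : PrimeSpectrum.comap (algebraMap (C' ⊗[C] S) (Localization.Away e)) z ∈
          Set.range (PrimeSpectrum.comap (algebraMap (C' ⊗[C] S) (Localization.Away e))) := ⟨z, rfl⟩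
      rw [PrimeSpectrum.localization_away_comap_range (Localization.Away e) e] at h1
      exact h1
  have hclopen : IsClopen ((PrimeSpectrum.comap (algebraMap C' (C' ⊗[C] S))) ⁻¹' TC) := by
    rw [hTC]
    have := flat_snd_comp g' f'
    have := lfp_snd_comp g' f'
    refine ⟨?_, ?_⟩
    · exact (pullback.snd (g' ≫ f') f').isClosedMap.isClosed_range
    · exact (pullback.snd (g' ≫ f') f').isOpenMap.isOpen_range
  obtain ⟨ε, hε, hεT⟩ := PrimeSpectrum.isClopen_iff.1 hclopen
  have hflatC' : Module.Flat C C' := inferInstance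
  have hinj' : Function.Injective (algebraMap C' (C' ⊗[C] S)) :=
    Algebra.TensorProduct.includeLeft_injective (S := C') hinj
  obtain ⟨ε', hε', rfl⟩ := Effective.exists_idempotent hinj'
    (Effective.isEffective_baseChange C' heff) TC ε hε (fun x => by
      change x ∈ (PrimeSpectrum.basicOpen ε : Set (PrimeSpectrum (C' ⊗[C] S))) ↔ _
      rw [← hεT]
      rfl)
  let v' : Spec (.of (Localization.Away ε')) ⟶ Spec (.of C') :=
    Spec.map (CommRingCat.ofHom (algebraMap C' (Localization.Away ε')))
  have : IsOpenImmersion v' := IsOpenImmersion.of_isLocalization ε'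
  have hrv' : Set.range v' = {x : PrimeSpectrum C' | ε' ∉ x.asIdeal} :=
    PrimeSpectrum.localization_away_comap_range (Localization.Away ε') ε'
  have hw : Etale w := by
    rw [HasRingHomProperty.Spec_iff (P := @Etale)]
    exact RingHom.etale_algebraMap.2 inferInstance
  have hQ : IsPullback (pullback.fst f' v' ≫ Spec.map (CommRingCat.ofHom
        (Algebra.TensorProduct.includeRight : S →ₐ[C] C' ⊗[C] S).toRingHom))
      (pullback.snd f' v') f (v' ≫ w) :=
    (IsPullback.of_hasPullback f' v').paste_horiz hpb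
  have hdom : IsSchemeTheoreticallyDominant f := by
    rw [isSchemeTheoreticallyDominant_iff]
    apply Scheme.IdealSheafData.ext_of_isAffine
    rw [Scheme.Hom.ker_apply, Scheme.IdealSheafData.ideal_bot, Pi.bot_apply,
      ← RingHom.injective_iff_ker_eq_bot]
    have h1 : f.appTop = (Scheme.ΓSpecIso (.of C)).hom ≫
        CommRingCat.ofHom (algebraMap C S) ≫ (Scheme.ΓSpecIso (.of S)).inv := by
      rw [← Category.assoc, Iso.eq_comp_inv]
      exact Scheme.ΓSpecIso_naturality _
    change Function.Injective f.appTop.hom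
    rw [h1, CommRingCat.hom_comp, CommRingCat.hom_comp, RingHom.coe_comp, RingHom.coe_comp]
    exact ((ConcreteCategory.bijective_of_isIso (Scheme.ΓSpecIso (.of S)).inv).1.comp hinj).comp
      (ConcreteCategory.bijective_of_isIso (Scheme.ΓSpecIso (.of C)).hom).1
  have hdomb : IsSchemeTheoreticallyDominant (pullback.snd f' v') := .of_isPullback hQ
  have hεy : ∀ y : PrimeSpectrum (C' ⊗[C] S),
      algebraMap C' (C' ⊗[C] S) ε' ∉ y.asIdeal ↔ y.comap (algebraMap C' (C' ⊗[C] S)) ∈ TC := by
    intro y
    change y ∈ (PrimeSpectrum.basicOpen (algebraMap C' (C' ⊗[C] S) ε') :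
      Set (PrimeSpectrum (C' ⊗[C] S))) ↔ _
    rw [← hεT]
    rfl
  have hrg' : Set.range g' = {x : PrimeSpectrum (C' ⊗[C] S) | e ∉ x.asIdeal} :=
    PrimeSpectrum.localization_away_comap_range (Localization.Away e) e
  have hl : Set.range (g' ≫ f') ⊆ Set.range v' := by
    rintro _ ⟨z, rfl⟩
    rw [hrv']
    have h1 : g' z ∈ {x : PrimeSpectrum (C' ⊗[C] S) | e ∉ x.asIdeal} := hrg' ▸ ⟨z, rfl⟩
    exact (hεy (g' z)).2 ⟨g' z, h1, rfl⟩
  let l : Spec (.of (Localization.Away e)) ⟶ Spec (.of (Localization.Away ε')) :=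
    IsOpenImmersion.lift v' (g' ≫ f') hl
  have hlv : l ≫ v' = g' ≫ f' := IsOpenImmersion.lift_fac _ _ _
  let g : Spec (.of (Localization.Away e)) ⟶ pullback f' v' := pullback.lift g' l hlv.symm
  have hg1 : g ≫ pullback.fst f' v' = g' := pullback.lift_fst _ _ _
  have hg2 : g ≫ pullback.snd f' v' = l := pullback.lift_snd _ _ _
  have : IsOpenImmersion (g ≫ pullback.fst f' v') := by rw [hg1]; infer_instance
  have : IsOpenImmersion g := .of_comp g (pullback.fst f' v')
  have : IsFinite (l ≫ v') := by rw [hlv]; infer_instance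
  have : IsFinite (g ≫ pullback.snd f' v') := by
    rw [hg2]
    exact .of_comp l v'
  have : Flat (pullback.fst (pullback.snd f' v') (pullback.snd f' v')) :=
    flat_self_of_isPullback hQ
  have : LocallyOfFinitePresentation (pullback.fst (pullback.snd f' v') (pullback.snd f' v')) :=
    lfp_self_of_isPullback hQ
  obtain ⟨h1, h2, h3⟩ := final g (pullback.snd f' v')
    ((pullback.snd f' v').app_injective ⊤) (fun x => by
      have e1 : f' (pullback.fst f' v' x) = v' (pullback.snd f' v' x) := by
        rw [← Scheme.Hom.comp_apply, ← Scheme.Hom.comp_apply, pullback.condition]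
      have e2 : v' (pullback.snd f' v' x) ∈ {x : PrimeSpectrum C' | ε' ∉ x.asIdeal} :=
        hrv' ▸ ⟨_, rfl⟩
      rw [← e1] at e2
      obtain ⟨y', hy', hy'x⟩ := (hεy (pullback.fst f' v' x)).1 e2
      obtain ⟨y, hy⟩ : y' ∈ Set.range g' := by rw [hrg']; exact hy'
      refine ⟨y, v'.injective ?_⟩
      have e3 : v' (l y) = f' (g' y) := by
        rw [← Scheme.Hom.comp_apply, hlv, Scheme.Hom.comp_apply]
      rw [hg2, e3, hy, ← e1]
      exact hy'x.symm)
  refine ⟨_, _, v' ≫ w, _, _, hQ, inferInstance, inferInstance, h1, h2, h3, ?_⟩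
  obtain ⟨z, hz⟩ : (⟨P', inferInstance⟩ : PrimeSpectrum (C' ⊗[C] S)) ∈ Set.range g' := by
    rw [hrg']; exact heP'
  refine ⟨g z, ?_⟩
  rw [← Scheme.Hom.comp_apply, reassoc_of% hg1, Scheme.Hom.comp_apply, hz]
  exact PrimeSpectrum.ext hP'q

end Groth.Agent.GrpQ.H776.QFCore
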